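import Groth.Agent.NormalSch.Basic
import Groth.Agent.SpreadOut.Components

/-!
# Quasi-finite birational morphisms to normal schemes
-/

set_option autoImplicit false
set_option backward.isDefEq.respectTransparency false
set_option linter.style.haveILetI false

universe u

open CategoryTheory AlgebraicGeometry TopologicalSpace

namespace Groth.Agent.BirNormal

/-- The algebraic form: near a quasi-finite point the extension is a localization. -/
theorem exists_away_bijective {A B : Type u} [CommRing A] [CommRing B] [Algebra A B]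
    [Algebra.FiniteType A B] (hint : ∀ b : B, IsIntegral A b → ∃ a, algebraMap A B a = b)
    (hinj : Function.Injective (algebraMap A B))
    (p : Ideal B) [p.IsPrime] [Algebra.QuasiFiniteAt A p] :
    ∃ a : A, algebraMap A B a ∉ p ∧
      Function.Bijective (Localization.awayMap (algebraMap A B) a) := by
  obtain ⟨r, hrp, hr, h⟩ := Algebra.zariskisMainProperty_iff.mp
    (Algebra.ZariskisMainProperty.of_finiteType (R := A) p)
  obtain ⟨a, rfl⟩ := hint r hr
  refine ⟨a, hrp, IsLocalization.map_injective_of_injective _ _ _ hinj, ?_⟩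
  rw [Localization.awayMap_surjective_iff]
  intro b
  obtain ⟨m, hm⟩ := h b
  obtain ⟨c, hc⟩ := hint _ hm
  exact ⟨c, m, hc⟩

variable {X Y : Scheme.{u}} [IsIntegral X] [IsIntegral Y]

/-- The local statement. -/
theorem exists_isOpenImmersion (hN : ∀ y : Y, IsIntegrallyClosed (Y.presheaf.stalk y)) (f : X ⟶ Y)
    [LocallyOfFiniteType f] (hgen : f (genericPoint X) = genericPoint Y)
    (hbir : IsIso (f.stalkMap (genericPoint X))) (x : X) (hx : f.QuasiFiniteAt x) :
    ∃ U : X.Opens, x ∈ U ∧ IsOpenImmersion (U.ι ≫ f) := by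
  have hY : Pi1.IsNormalScheme Y := fun y => ⟨inferInstance, hN y⟩
  obtain ⟨_, ⟨V, hV, rfl⟩, hxV, -⟩ :=
    Y.isBasis_affineOpens.exists_subset_of_mem_open (Set.mem_univ (f x)) isOpen_univ
  obtain ⟨_, ⟨U, hU, rfl⟩, hxU, hUV : U ≤ f ⁻¹ᵁ V⟩ :=
    X.isBasis_affineOpens.exists_subset_of_mem_open (show x ∈ (f ⁻¹ᵁ V : Set X) from hxV)
      (f ⁻¹ᵁ V).2
  haveI : Nonempty U := ⟨⟨x, hxU⟩⟩
  haveI : Nonempty V := ⟨⟨f x, hxV⟩⟩
  letI : Algebra Γ(Y, V) Γ(X, U) := (f.appLE V U hUV).hom.toAlgebra
  haveI : Algebra.FiniteType Γ(Y, V) Γ(X, U) := f.finiteType_appLE hV hU hUV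
  haveI : Algebra.QuasiFiniteAt Γ(Y, V) (hU.primeIdealOf ⟨x, hxU⟩).asIdeal :=
    hx.quasiFiniteAt hU hV hUV hxU
  have hηU : genericPoint X ∈ U := (genericPoint_specializes x).mem_open U.2 hxU
  have hηV : f (genericPoint X) ∈ V := hUV hηU
  have key : ∀ y, y = genericPoint Y → ∀ (hy : y ∈ V) (z : Y.presheaf.stalk y),
      (Y.presheaf.germ V y hy).hom.IsIntegralElem z → ∃ a, Y.presheaf.germ V y hy a = z := by
    rintro y rfl hy z hz
    exact NormalSch.exists_section_of_isIntegral hY V z hz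
  have hinjY : ∀ y, y = genericPoint Y → ∀ hy : y ∈ V,
      Function.Injective (Y.presheaf.germ V y hy) := by
    rintro y rfl hy
    exact Y.germToFunctionField_injective V
  let σ := f.stalkMap (genericPoint X)
  have hσ := (ConcreteCategory.isIso_iff_bijective σ).1 hbir
  have hcomp : ∀ a : Γ(Y, V), X.presheaf.germ U (genericPoint X) hηU (f.appLE V U hUV a) =
      σ (Y.presheaf.germ V (f (genericPoint X)) hηV a) := fun a => by
    rw [← CommRingCat.comp_apply, ← CommRingCat.comp_apply, Scheme.Hom.appLE, Category.assoc,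
      X.presheaf.germ_res, Scheme.Hom.germ_stalkMap]
  have hinjX : Function.Injective (X.presheaf.germ U (genericPoint X) hηU) :=
    X.germToFunctionField_injective U
  have hinj : Function.Injective (algebraMap Γ(Y, V) Γ(X, U)) := fun a b h => by
    refine hinjY _ hgen hηV (hσ.1 ?_)
    rw [← hcomp, ← hcomp]
    exact congrArg _ h
  have hint : ∀ b : Γ(X, U), IsIntegral Γ(Y, V) b → ∃ a, algebraMap Γ(Y, V) Γ(X, U) a = b := by
    intro b hb
    obtain ⟨z, hz⟩ := hσ.2 (X.presheaf.germ U (genericPoint X) hηU b)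
    obtain ⟨P, hP, hP0⟩ := hb
    obtain ⟨a, ha⟩ := key _ hgen hηV z ⟨P, hP, hσ.1 (by
      rw [map_zero]
      show σ.hom (Polynomial.eval₂ _ z P) = 0
      rw [Polynomial.hom_eval₂, show σ.hom z = _ from hz,
        show σ.hom.comp (Y.presheaf.germ V (f (genericPoint X)) hηV).hom =
          (X.presheaf.germ U (genericPoint X) hηU).hom.comp (f.appLE V U hUV).hom from
          RingHom.ext fun a => (hcomp a).symm,
        ← Polynomial.hom_eval₂]
      exact (congrArg _ hP0).trans (map_zero _))⟩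
    exact ⟨a, hinjX ((hcomp a).trans ((congrArg σ ha).trans hz))⟩
  obtain ⟨a, hap, hbij⟩ := exists_away_bijective hint hinj (hU.primeIdealOf ⟨x, hxU⟩).asIdeal
  refine ⟨X.basicOpen (f.appLE V U hUV a), ?_, ?_⟩
  · rw [Scheme.mem_basicOpen _ _ _ hxU]
    by_contra hu
    letI := X.presheaf.algebra_section_stalk (⟨x, hxU⟩ : U)
    haveI := hU.isLocalization_stalk ⟨x, hxU⟩
    exact hap ((IsLocalization.AtPrime.to_map_mem_maximal_iff (X.presheaf.stalk x)
      (hU.primeIdealOf ⟨x, hxU⟩).asIdeal _).1 hu)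
  have hle : X.basicOpen (f.appLE V U hUV a) ≤ f ⁻¹ᵁ Y.basicOpen a := by
    rw [Scheme.basicOpen_appLE]
    exact inf_le_right
  haveI := hV.isLocalization_basicOpen a
  haveI := hU.isLocalization_basicOpen (f.appLE V U hUV a)
  haveI : IsIso (f.appLE (Y.basicOpen a) (X.basicOpen (f.appLE V U hUV a)) hle) := by
    rw [ConcreteCategory.isIso_iff_bijective]
    let eA := IsLocalization.algEquiv (Submonoid.powers a) (Localization.Away a) Γ(Y, Y.basicOpen a)
    let eB := IsLocalization.algEquiv (Submonoid.powers (f.appLE V U hUV a))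
      (Localization.Away (f.appLE V U hUV a)) Γ(X, X.basicOpen (f.appLE V U hUV a))
    have : (f.appLE (Y.basicOpen a) (X.basicOpen (f.appLE V U hUV a)) hle).hom.comp
        (eA : Localization.Away a →+* _) =
        (eB : Localization.Away (f.appLE V U hUV a) →+* _).comp
          (Localization.awayMap (algebraMap Γ(Y, V) Γ(X, U)) a) := by
      refine IsLocalization.ringHom_ext (Submonoid.powers a) (RingHom.ext fun t => ?_)
      simp only [RingHom.comp_apply, RingHom.coe_coe, AlgEquiv.commutes, Localization.awayMap,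
        IsLocalization.Away.map]
      erw [IsLocalization.map_eq]
      refine Eq.trans ?_ (eB.commutes _).symm
      show f.appLE _ _ hle (Y.presheaf.map (homOfLE (Y.basicOpen_le a)).op t) =
        X.presheaf.map (homOfLE (X.basicOpen_le _)).op (f.appLE V U hUV t)
      rw [← CommRingCat.comp_apply, ← CommRingCat.comp_apply, Scheme.Hom.map_appLE,
        Scheme.Hom.appLE_map]
    have hb : Function.Bijective ((f.appLE (Y.basicOpen a)
        (X.basicOpen (f.appLE V U hUV a)) hle).hom ∘ eA) := by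
      have h2 := congrArg DFunLike.coe this
      rw [RingHom.coe_comp, RingHom.coe_comp] at h2
      exact h2.symm ▸ eB.bijective.comp hbij
    exact (Function.Bijective.of_comp_iff _ eA.bijective).1 hb
  have h3 := (hV.basicOpen a).SpecMap_appLE_fromSpec f (hU.basicOpen (f.appLE V U hUV a)) hle
  haveI : IsOpenImmersion ((hU.basicOpen (f.appLE V U hUV a)).fromSpec ≫ f) := by
    rw [← h3]
    infer_instance
  rw [← (hU.basicOpen (f.appLE V U hUV a)).isoSpec.hom_inv_id_assoc
    ((X.basicOpen (f.appLE V U hUV a)).ι ≫ f),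
    ← Category.assoc (hU.basicOpen (f.appLE V U hUV a)).isoSpec.inv,
    IsAffineOpen.isoSpec_inv_ι]
  infer_instance

/-- A separated local isomorphism which is birational is an open immersion. -/
theorem isOpenImmersion_of_isSeparated (f : X ⟶ Y) [IsLocalIso f] [IsSeparated f]
    (hgen : f (genericPoint X) = genericPoint Y) : IsOpenImmersion f := by
  have hinj : Function.Injective f := by
    intro p q hpq
    obtain ⟨U, hpU, hU⟩ := IsLocalIso.exists_isOpenImmersion (f := f) p
    obtain ⟨U', hqU, hU'⟩ := IsLocalIso.exists_isOpenImmersion (f := f) q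
    let j := U.ι ≫ f
    let j' := U'.ι ≫ f
    let W := j.opensRange ⊓ j'.opensRange
    have hw : f p ∈ W := ⟨⟨⟨p, hpU⟩, rfl⟩, ⟨⟨q, hqU⟩, hpq.symm⟩⟩
    haveI : Nonempty W := ⟨⟨f p, hw⟩⟩
    let s : (W : Scheme.{u}) ⟶ X :=
      IsOpenImmersion.lift j W.ι (by simp [W, Scheme.Opens.range_ι]) ≫ U.ι
    let s' : (W : Scheme.{u}) ⟶ X :=
      IsOpenImmersion.lift j' W.ι (by simp [W, Scheme.Opens.range_ι]) ≫ U'.ι
    have hs : s ≫ f = W.ι := by simp [s, j]
    have hs' : s' ≫ f = W.ι := by simp [s', j']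
    have hηU : genericPoint X ∈ U := (genericPoint_specializes p).mem_open U.2 hpU
    have hηU' : genericPoint X ∈ U' := (genericPoint_specializes q).mem_open U'.2 hqU
    let O : X.Opens := U ⊓ U' ⊓ f ⁻¹ᵁ W
    have hηO : genericPoint X ∈ O :=
      ⟨⟨hηU, hηU'⟩, show f (genericPoint X) ∈ W by
        rw [hgen]; exact (genericPoint_specializes _).mem_open W.2 hw⟩
    let a : (O : Scheme.{u}) ⟶ W := IsOpenImmersion.lift W.ι (O.ι ≫ f) (by
      rintro _ ⟨z, rfl⟩; rw [Scheme.Opens.range_ι]; exact z.2.2)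
    have ha : a ≫ W.ι = O.ι ≫ f := IsOpenImmersion.lift_fac _ _ _
    have h1 : a ≫ s = O.ι := by
      rw [← Scheme.homOfLE_ι X (show O ≤ U from fun z hz => hz.1.1)]
      simp only [s, ← Category.assoc]
      congr 1
      rw [← cancel_mono j, Category.assoc, IsOpenImmersion.lift_fac, ha]
      simp [j]
    have h2 : a ≫ s' = O.ι := by
      rw [← Scheme.homOfLE_ι X (show O ≤ U' from fun z hz => hz.1.2)]
      simp only [s', ← Category.assoc]
      congr 1
      rw [← cancel_mono j', Category.assoc, IsOpenImmersion.lift_fac, ha]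
      simp [j']
    haveI : IsDominant a := ⟨by
      have hη : a ⟨genericPoint X, hηO⟩ = genericPoint W :=
        W.ι.isOpenEmbedding.injective (by
          rw [← Scheme.Hom.comp_apply, ha, genericPoint_eq_of_isOpenImmersion]
          exact hgen)
      intro z
      exact (genericPoint_specializes z).mem_closed isClosed_closure
        (subset_closure ⟨_, hη⟩)⟩
    have hss : s = s' := ext_of_isDominant_of_isSeparated f (hs.trans hs'.symm) a (h1.trans h2.symm)
    have hp : s ⟨f p, hw⟩ = p := by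
      have : IsOpenImmersion.lift j W.ι (by simp [W, Scheme.Opens.range_ι]) ⟨f p, hw⟩ = ⟨p, hpU⟩ :=
        j.isOpenEmbedding.injective (by
          rw [← Scheme.Hom.comp_apply, IsOpenImmersion.lift_fac]; rfl)
      simp only [s, Scheme.Hom.comp_apply, this]
      rfl
    have hq : s' ⟨f p, hw⟩ = q := by
      have : IsOpenImmersion.lift j' W.ι (by simp [W, Scheme.Opens.range_ι]) ⟨f p, hw⟩ = ⟨q, hqU⟩ :=
        j'.isOpenEmbedding.injective (by
          rw [← Scheme.Hom.comp_apply, IsOpenImmersion.lift_fac]; exact hpq)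
      simp only [s', Scheme.Hom.comp_apply, this]
      rfl
    rw [← hp, hss, hq]
  have hloc : ∀ p : X, ∃ U : X.Opens, p ∈ U ∧ IsOpenImmersion (U.ι ≫ f) :=
    IsLocalIso.exists_isOpenImmersion
  haveI : ∀ p, IsIso (f.stalkMap p) := fun p => by
    obtain ⟨U, hpU, hU⟩ := hloc p
    have : IsIso ((U.ι ≫ f).stalkMap ⟨p, hpU⟩) := inferInstance
    rw [Scheme.Hom.stalkMap_comp] at this
    exact @IsIso.of_isIso_comp_right _ _ _ _ _ (f.stalkMap p) (U.ι.stalkMap ⟨p, hpU⟩)
      inferInstance this
  refine IsOpenImmersion.of_isIso_stalkMap f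
    (.of_continuous_injective_isOpenMap f.continuous hinj fun O hO => ?_)
  refine isOpen_iff_forall_mem_open.2 fun y hy => ?_
  obtain ⟨p, hpO, rfl⟩ := hy
  obtain ⟨U, hpU, hU⟩ := hloc p
  refine ⟨(U.ι ≫ f) '' (U.ι ⁻¹' O), ?_, (U.ι ≫ f).isOpenEmbedding.isOpenMap _
    (hO.preimage U.ι.continuous), ⟨⟨p, hpU⟩, hpO, rfl⟩⟩
  rintro _ ⟨z, hz, rfl⟩
  exact ⟨z.1, hz, rfl⟩

end Groth.Agent.BirNormal
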